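import Cfsg.Agent.Lib.KnownSimple.SLBlocks.Split

/-!
Any two Sylow `2`-subgroups of a group containing `SL(n,2)` with index `2` meet non-trivially.
-/

set_option autoImplicit false

namespace CfsgLib.SylowMeet

open Matrix CfsgLib.Fusion.UniTri
open scoped Pointwise

variable {F : Type*} [Field F] {n : ℕ}

/-- A vector killed by fewer linear conditions than the dimension. -/
theorem exists_ne_zero_of_conditions {ι : Type} [Fintype ι] (L : (Fin n → F) →ₗ[F] (ι → F))
    (h : Fintype.card ι < n) : ∃ v : Fin n → F, v ≠ 0 ∧ L v = 0 := by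
  have hne : LinearMap.ker L ≠ ⊥ := fun he => by
    have := LinearMap.finrank_le_finrank_of_injective (LinearMap.ker_eq_bot.1 he)
    simp only [Module.finrank_pi, Fintype.card_fin] at this
    omega
  obtain ⟨v, hv, hv0⟩ := Submodule.exists_mem_ne_zero_of_ne_bot hne
  exact ⟨v, hv0, LinearMap.mem_ker.1 hv⟩

variable [Finite F]

theorem one_add_vecMulVec_mem {i : ℕ} {v φ : Fin n → F} (hv : ∀ r : Fin n, i ≤ r.val → v r = 0)
    (hφ : ∀ r : Fin n, r.val + 1 < i → φ r = 0) (hφv : φ ⬝ᵥ v = 0) :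
    IsUni (1 + vecMulVec v φ) := by
  refine ⟨fun r s hsr => ?_, fun r => ?_⟩
  · rw [Matrix.add_apply, Matrix.one_apply_ne hsr.ne', zero_add, vecMulVec_apply]
    rcases Nat.lt_or_ge r.val i with h | h
    · rw [hφ s (by omega), mul_zero]
    · rw [hv r h, zero_mul]
  · rw [Matrix.add_apply, Matrix.one_apply_eq, vecMulVec_apply, add_eq_left]
    rcases Nat.lt_or_ge r.val i with h | h
    · rcases Nat.lt_or_ge (r.val + 1) i with h' | h'
      · rw [hφ r h', mul_zero]
      · rw [dotProduct, Finset.sum_eq_single r (fun s _ hs => ?_) (by simp)] at hφv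
        · rw [mul_comm]; exact hφv
        · rcases Nat.lt_or_ge s.val r.val with h'' | h''
          · rw [hφ s (by omega), zero_mul]
          · rw [hv s (by have := Fin.val_ne_iff.2 hs; omega), mul_zero]
    · rw [hv r h, zero_mul]

theorem det_isUni {M : Matrix (Fin n) (Fin n) F} (h : IsUni M) : M.det = 1 := by
  rw [Matrix.det_of_isUpperTriangular (fun r s hrs => h.1 r s hrs)]
  simp [h.2]

/-- If conjugation by `x` moves the upper unitriangular group to trivial intersection, `x` lies in the long double coset. -/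
theorem exists_long_decomp (hz : ∀ z : F, z = 0 ∨ z = 1) :
    ∃ w : Matrix.SpecialLinearGroup (Fin n) F, ∀ x : Matrix.SpecialLinearGroup (Fin n) F,
      (∀ u ∈ upper F n, x⁻¹ * u * x ∈ upper F n → u = 1) →
        ∃ a ∈ upper F n, ∃ b ∈ upper F n, x = a * w * b := by
  have hdet : ∀ M : Matrix (Fin n) (Fin n) F, IsUnit M.det → M.det = 1 := fun M h => (hz _).resolve_left h.ne_zero
  have hJ : ((Fin.revPerm : Equiv.Perm (Fin n)).permMatrix F).det = 1 := hdet _ (by
    rw [Matrix.det_permutation]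
    exact IsUnit.map (Int.castRingHom F) (Units.isUnit _))
  obtain ⟨W, hW⟩ : ∃ W : Matrix.SpecialLinearGroup (Fin n) F,
      W.1 = (Fin.revPerm : Equiv.Perm (Fin n)).permMatrix F := ⟨⟨_, hJ⟩, rfl⟩
  refine ⟨W, fun x hx => ?_⟩
  set X := x.1 with hX
  set Y := (x⁻¹).1 with hY
  have hYX : Y * X = 1 := by rw [hY, hX, ← Matrix.SpecialLinearGroup.coe_mul, inv_mul_cancel]; rfl
  have opp : ∀ (i : ℕ) (v : Fin n → F), i < n → (∀ r : Fin n, i ≤ r.val → v r = 0) →
      (∀ r : Fin n, n - i ≤ r.val → (Y *ᵥ v) r = 0) → v = 0 := by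
    intro i v hin hv hv'
    rcases Nat.eq_zero_or_pos i with rfl | hi
    · exact funext fun r => hv r (Nat.zero_le _)
    by_contra hv0
    let L : (Fin n → F) →ₗ[F] ((Fin (i - 1) ⊕ Fin (n - i - 1)) ⊕ Unit → F) :=
      { toFun := fun φ => Sum.elim (Sum.elim (fun r => φ ⟨r.val, by omega⟩) (fun r => (φ ᵥ* X) ⟨r.val, by omega⟩))
          (fun _ => φ ⬝ᵥ v)
        map_add' := fun a b => by
          funext j; rcases j with (j | j) | j <;> simp [add_vecMul, add_dotProduct]
        map_smul' := fun c a => by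
          funext j; rcases j with (j | j) | j <;> simp [smul_vecMul, smul_dotProduct] }
    obtain ⟨φ, hφ0, hφ⟩ := exists_ne_zero_of_conditions L (by simp; omega)
    have h1 : ∀ r : Fin n, r.val + 1 < i → φ r = 0 := fun r hr =>
      congrFun hφ (.inl (.inl ⟨r.val, by omega⟩))
    have h2 : ∀ r : Fin n, r.val + 1 < n - i → (φ ᵥ* X) r = 0 := fun r hr =>
      congrFun hφ (.inl (.inr ⟨r.val, by omega⟩))
    have h3 : φ ⬝ᵥ v = 0 := congrFun hφ (.inr ())
    have hu := one_add_vecMulVec_mem hv h1 h3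
    have hXY : X * Y = 1 := mul_eq_one_comm.1 hYX
    have hu' := one_add_vecMulVec_mem hv' h2 (by rw [← dotProduct_mulVec, mulVec_mulVec, hXY, one_mulVec, h3])
    have := congrArg Subtype.val (hx ⟨_, det_isUni hu⟩ (mem_upper.2 hu) (mem_upper.2 (by
      show IsUni (Y * (1 + vecMulVec v φ) * X)
      rw [Matrix.mul_add, Matrix.mul_one, Matrix.add_mul, hYX, mul_vecMulVec, vecMulVec_mul]
      exact hu')))
    obtain ⟨r, hr⟩ := Function.ne_iff.1 hv0
    obtain ⟨s, hs⟩ := Function.ne_iff.1 hφ0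
    have := congrFun (congrFun this r) s
    simp [vecMulVec_apply, Matrix.add_apply] at this
    exact (this.elim hr hs)
  have hl : ∀ i : Fin n, ∃ l : Fin n → F, (∀ r : Fin n, i < r → l r = 0) ∧ l i = 1 ∧
      ∀ r : Fin n, n - i.val ≤ r.val → (Y *ᵥ l) r = 0 := by
    intro i
    let L : (Fin n → F) →ₗ[F] (Fin (n - 1 - i.val) ⊕ Fin i.val → F) :=
      { toFun := fun l => Sum.elim (fun r => l ⟨i.val + 1 + r.val, by omega⟩) (fun r => (Y *ᵥ l) ⟨n - i.val + r.val, by omega⟩)
        map_add' := fun a b => by funext j; rcases j with j | j <;> simp [mulVec_add]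
        map_smul' := fun c a => by funext j; rcases j with j | j <;> simp [mulVec_smul] }
    obtain ⟨l, hl0, hl⟩ := exists_ne_zero_of_conditions L (by simp; omega)
    have h1 : ∀ r : Fin n, i < r → l r = 0 := fun r hr => by
      have := congrFun hl (.inl ⟨r.val - (i.val + 1), by omega⟩)
      simpa [L, show i.val + 1 + (r.val - (i.val + 1)) = r.val by omega] using this
    have h2 : ∀ r : Fin n, n - i.val ≤ r.val → (Y *ᵥ l) r = 0 := fun r hr => by
      have := congrFun hl (.inr ⟨r.val - (n - i.val), by omega⟩)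
      simpa [L, show n - i.val + (r.val - (n - i.val)) = r.val by omega] using this
    refine ⟨l, h1, (hz _).resolve_left fun h => hl0 (opp i.val l i.2 (fun r hr => ?_) h2), h2⟩
    rcases eq_or_lt_of_le hr with h' | h'
    · rw [show r = i from Fin.ext h'.symm]; exact h
    · exact h1 r h'
  choose l h1 h2 h3 using hl
  have hA : IsUni (Matrix.of fun r s => l s r : Matrix (Fin n) (Fin n) F) :=
    ⟨fun r s hsr => h1 s r hsr, fun r => h2 r⟩
  let A : Matrix.SpecialLinearGroup (Fin n) F := ⟨_, det_isUni hA⟩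
  refine ⟨A, mem_upper.2 hA, (x⁻¹ * A * W)⁻¹, inv_mem (mem_upper.2 ?_), ?_⟩
  swap
  · rw [_root_.mul_inv_rev, _root_.mul_inv_rev, inv_inv]; simp [mul_assoc]
  have hd := (x⁻¹ * A * W).2
  have hlow : ∀ r s : Fin n, s < r → (x⁻¹ * A * W).1 r s = 0 := by
    intro r s hsr
    rw [Matrix.SpecialLinearGroup.coe_mul, Matrix.SpecialLinearGroup.coe_mul]
    rw [hW]
    show ((Y * A.1) * (Fin.revPerm : Equiv.Perm (Fin n)).permMatrix F) r s = 0
    show ((Y * A.1) r ᵥ* (Fin.revPerm : Equiv.Perm (Fin n)).permMatrix F) s = 0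
    rw [Matrix.vecMul_permMatrix, Function.comp_apply]
    refine h3 (Fin.revPerm.symm s) r ?_
    have := s.2
    rw [Fin.revPerm_symm, Fin.revPerm_apply, Fin.val_rev]
    omega
  refine ⟨hlow, fun r => (hz _).resolve_left fun h0 => ?_⟩
  have h1d : (x⁻¹ * A * W).1.det = 1 := (x⁻¹ * A * W).2
  rw [Matrix.det_of_isUpperTriangular (fun r s hrs => hlow r s hrs), Finset.prod_eq_zero (f := fun i => (x⁻¹ * A * W).1 i i) (Finset.mem_univ r) h0] at h1d
  exact zero_ne_one h1d

/-- Two-sided translation of trivially intersecting conjugates inside `SL(n,2)`. -/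
theorem free_mem_double_coset {m : ℕ} [CharP F 2] (hz : ∀ z : F, z = 0 ∨ z = 1)
    (P : Sylow 2 (Matrix.SpecialLinearGroup (Fin (m + 1)) F)) (x y : Matrix.SpecialLinearGroup (Fin (m + 1)) F)
    (hx : ∀ u ∈ (P : Subgroup _), x⁻¹ * u * x ∈ (P : Subgroup _) → u = 1)
    (hy : ∀ u ∈ (P : Subgroup _), y⁻¹ * u * y ∈ (P : Subgroup _) → u = 1) :
    ∃ a ∈ (P : Subgroup _), ∃ b ∈ (P : Subgroup _), y = a * x * b := by
  haveI : Fact (Nat.Prime 2) := ⟨Nat.prime_two⟩
  classical
  haveI := Fintype.ofFinite F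
  obtain ⟨P0, hP0⟩ := CfsgLib.KnownSimple.SLBlocks.exists_sylow_upper (F := F) (m := m) (p := 2)
  obtain ⟨s, hs⟩ := MulAction.exists_smul_eq (Matrix.SpecialLinearGroup (Fin (m + 1)) F) P0 P
  have hmem : ∀ u, u ∈ (P : Subgroup _) ↔ s⁻¹ * u * s ∈ upper F (m + 1) := fun u => by
    rw [← hP0, ← hs, Sylow.coe_subgroup_smul, Subgroup.mem_pointwise_smul_iff_inv_smul_mem]
    simp [MulAut.smul_def, mul_assoc]
  obtain ⟨w, hw⟩ := exists_long_decomp (n := m + 1) hz
  have key : ∀ x, (∀ u ∈ (P : Subgroup _), x⁻¹ * u * x ∈ (P : Subgroup _) → u = 1) →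
      ∃ a ∈ (P : Subgroup _), ∃ b ∈ (P : Subgroup _), x = a * (s * w * s⁻¹) * b := by
    intro x hx
    obtain ⟨a, ha, b, hb, hab⟩ := hw (s⁻¹ * x * s) fun u hu hu' => by
      have h1 := hx (s * u * s⁻¹) ((hmem _).2 (by simpa [mul_assoc] using hu))
        ((hmem _).2 (by simpa [mul_assoc, _root_.mul_inv_rev] using hu'))
      rwa [mul_inv_eq_one, mul_eq_left] at h1
    refine ⟨s * a * s⁻¹, (hmem _).2 (by simpa [mul_assoc] using ha), s * b * s⁻¹,
      (hmem _).2 (by simpa [mul_assoc] using hb), ?_⟩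
    calc x = s * (s⁻¹ * x * s) * s⁻¹ := by group
      _ = _ := by rw [hab]; group
  obtain ⟨a, ha, b, hb, rfl⟩ := key x hx
  obtain ⟨c, hc, d, hd, rfl⟩ := key y hy
  exact ⟨c * a⁻¹, mul_mem hc (inv_mem ha), b⁻¹ * d, mul_mem (inv_mem hb) hd, by group⟩

omit [Finite F] in
theorem sylow_meet_index_two {G : Type*} [Group G] [Finite G] {m : ℕ} (N : Subgroup G) [N.Normal]
    (e : N ≃* Matrix.SpecialLinearGroup (Fin (m + 1)) (ZMod 2)) (hidx : N.index = 2) (H : Sylow 2 G) (x : G) :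
    (H : Subgroup G) ⊓ MulAut.conj x • (H : Subgroup G) ≠ ⊥ := by
  haveI : Fact (Nat.Prime 2) := ⟨Nat.prime_two⟩
  intro hbot
  obtain ⟨t, htH, htN⟩ : ∃ t ∈ (H : Subgroup G), t ∉ N := by
    by_contra! h
    have h2 := Subgroup.index_dvd_of_le h
    rw [hidx] at h2
    exact H.not_dvd_index h2
  -- the trace on `N` is a Sylow subgroup
  obtain ⟨Q, hQ⟩ := (H.2.comap_of_injective N.subtype Subtype.val_injective).exists_le_sylow
  have hQH : ∀ u : N, u ∈ (Q : Subgroup N) ↔ (u : G) ∈ (H : Subgroup G) := by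
    obtain ⟨R, hR⟩ := (Q.2.map N.subtype).exists_le_sylow
    obtain ⟨g, hg⟩ := MulAction.exists_smul_eq G R H
    have hc : Nat.card (Q : Subgroup N) ≤ Nat.card ((H : Subgroup G).comap N.subtype) :=
      Nat.card_le_card_of_injective
        (fun q => ⟨⟨g * q.1.1 * g⁻¹, ‹N.Normal›.conj_mem _ q.1.2 g⟩, by
          rw [Subgroup.mem_comap, ← hg]
          exact Subgroup.smul_mem_pointwise_smul (q.1 : G) (MulAut.conj g) _ (hR ⟨q.1, q.2, rfl⟩)⟩)
        fun q q' h => by
          simp only [Subtype.mk.injEq, mul_left_inj, mul_right_inj] at h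
          exact Subtype.ext (Subtype.ext h)
    have := Subgroup.eq_of_le_of_card_ge hQ hc
    intro u
    rw [← this]
    rfl
  -- reduce to `x ∈ N`
  obtain ⟨y, hy⟩ : ∃ y : N, ∀ u : G, u ∈ (H : Subgroup G) → (y : G)⁻¹ * u * y ∈ (H : Subgroup G) → u = 1 := by
    have hdich : x ∈ N ∨ x * t ∈ N := by
      by_cases hxN : x ∈ N
      · exact Or.inl hxN
      · exact Or.inr ((Subgroup.mul_mem_iff_of_index_two hidx).2 (iff_of_false hxN htN))
    have h0 : ∀ u ∈ (H : Subgroup G), x⁻¹ * u * x ∈ (H : Subgroup G) → u = 1 := fun u hu hu' => by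
      rw [← Subgroup.mem_bot, ← hbot]
      refine Subgroup.mem_inf.2 ⟨hu, ?_⟩
      rw [Subgroup.mem_pointwise_smul_iff_inv_smul_mem]
      simpa [MulAut.smul_def, mul_assoc] using hu'
    rcases hdich with h | h
    · exact ⟨⟨x, h⟩, h0⟩
    · refine ⟨⟨x * t, h⟩, fun u hu hu' => h0 u hu ?_⟩
      have := mul_mem (mul_mem htH hu') (inv_mem htH)
      simpa [mul_assoc] using this
  let z : N := ⟨t * y * t⁻¹, ‹N.Normal›.conj_mem _ y.2 t⟩
  let P : Sylow 2 (Matrix.SpecialLinearGroup (Fin (m + 1)) (ZMod 2)) :=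
    Q.mapSurjective (f := e.toMonoidHom) e.surjective
  have hPm : ∀ v, v ∈ (P : Subgroup _) ↔ ((e.symm v : N) : G) ∈ (H : Subgroup G) := fun v => by
    rw [← hQH]
    exact ⟨by rintro ⟨q, hq, rfl⟩; simp only [MulEquiv.coe_toMonoidHom, e.symm_apply_apply]; exact hq,
      fun h => ⟨_, h, e.apply_symm_apply v⟩⟩
  have free : ∀ r : N, (∀ u : G, u ∈ (H : Subgroup G) → (r : G)⁻¹ * u * r ∈ (H : Subgroup G) → u = 1) →
      ∀ v ∈ (P : Subgroup _), (e r)⁻¹ * v * e r ∈ (P : Subgroup _) → v = 1 := by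
    intro r hr v hv hv'
    rw [hPm] at hv hv'
    have := hr _ hv (by simpa using hv')
    rw [OneMemClass.coe_eq_one] at this
    simpa using this
  have hzfree : ∀ u : G, u ∈ (H : Subgroup G) → (z : G)⁻¹ * u * z ∈ (H : Subgroup G) → u = 1 := by
    intro u hu hu'
    have := hy (t⁻¹ * u * t) (mul_mem (mul_mem (inv_mem htH) hu) htH) (by
      have := mul_mem (mul_mem (inv_mem htH) hu') htH
      simpa [z, mul_assoc] using this)
    calc u = t * (t⁻¹ * u * t) * t⁻¹ := by group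
      _ = 1 := by rw [this]; group
  obtain ⟨a, ha, b, hb, hab⟩ := free_mem_double_coset (m := m) (by intro c; fin_cases c; exacts [Or.inl rfl, Or.inr rfl]) P (e y) (e z)
    (free y hy) (free z hzfree)
  rw [hPm] at ha hb
  have hz' : t * y * t⁻¹ = ((e.symm a : N) : G) * y * ((e.symm b : N) : G) := by
    have := congrArg (fun v => ((e.symm v : N) : G)) hab
    simpa [z] using this
  have hu : ((e.symm a : N) : G)⁻¹ * t ∈ (H : Subgroup G) := mul_mem (inv_mem ha) htH
  have := hy _ hu (by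
    rw [show (y : G)⁻¹ * (((e.symm a : N) : G)⁻¹ * t) * y = (y : G)⁻¹ * ((e.symm a : N) : G)⁻¹ * (t * y * t⁻¹) * t by group, hz']
    rw [show (y : G)⁻¹ * ((e.symm a : N) : G)⁻¹ * (((e.symm a : N) : G) * y * ((e.symm b : N) : G)) * t = ((e.symm b : N) : G) * t by group]
    exact mul_mem hb htH)
  exact htN ((inv_mul_eq_one.1 this) ▸ (e.symm a).2)

end CfsgLib.SylowMeet
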