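import Mathlib
import Cfsg.Prelude.Def_Classical

/-!
Any two Sylow `2`-subgroups of `O⁺(2m,2)` meet non-trivially.
-/

set_option autoImplicit false

namespace CfsgLib.SylowMeet

open Matrix Cfsg
open scoped Pointwise

variable {F : Type*} [Field F] {n : ℕ}

/-- The polar form of the hyperbolic form. -/
def pol (u v : Fin n ⊕ Fin n → F) : F := ∑ i, (u (.inl i) * v (.inr i) + u (.inr i) * v (.inl i))

theorem qPlus_add (u v : Fin n ⊕ Fin n → F) :
    quadFormPlus n F (u + v) = quadFormPlus n F u + quadFormPlus n F v + pol u v := by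
  simp only [quadFormPlus, pol, Pi.add_apply, ← Finset.sum_add_distrib]
  exact Finset.sum_congr rfl fun i _ => by ring

theorem qPlus_smul (c : F) (v : Fin n ⊕ Fin n → F) : quadFormPlus n F (c • v) = c ^ 2 * quadFormPlus n F v := by
  simp only [quadFormPlus, Pi.smul_apply, smul_eq_mul, Finset.mul_sum]
  exact Finset.sum_congr rfl fun i _ => by ring

theorem pol_comm (u v : Fin n ⊕ Fin n → F) : pol u v = pol v u :=
  Finset.sum_congr rfl fun i _ => by ring

theorem pol_add_left (u u' v : Fin n ⊕ Fin n → F) : pol (u + u') v = pol u v + pol u' v := by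
  simp only [pol, Pi.add_apply, ← Finset.sum_add_distrib]
  exact Finset.sum_congr rfl fun i _ => by ring

theorem pol_smul_left (c : F) (u v : Fin n ⊕ Fin n → F) : pol (c • u) v = c * pol u v := by
  simp only [pol, Pi.smul_apply, smul_eq_mul, Finset.mul_sum]
  exact Finset.sum_congr rfl fun i _ => by ring

theorem pol_add_right (u v v' : Fin n ⊕ Fin n → F) : pol u (v + v') = pol u v + pol u v' := by
  rw [pol_comm, pol_add_left, pol_comm v, pol_comm v']

theorem pol_smul_right (c : F) (u v : Fin n ⊕ Fin n → F) : pol u (c • v) = c * pol u v := by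
  rw [pol_comm, pol_smul_left, pol_comm]

theorem pol_self (hc : (2 : F) = 0) (u : Fin n ⊕ Fin n → F) : pol u u = 0 :=
  Finset.sum_eq_zero fun i _ => by linear_combination u (.inl i) * u (.inr i) * hc

theorem exists_pol_ne_zero {u : Fin n ⊕ Fin n → F} (hu : u ≠ 0) : ∃ v, pol v u ≠ 0 := by
  obtain ⟨j, hj⟩ := Function.ne_iff.1 hu
  rcases j with i | i
  · refine ⟨Pi.single (.inr i) 1, ?_⟩
    simpa [pol, Pi.single_apply] using hj
  · refine ⟨Pi.single (.inl i) 1, ?_⟩
    simpa [pol, Pi.single_apply] using hj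

theorem mem_iso_iff (g : GL (Fin n ⊕ Fin n) F) :
    g ∈ isometryGroup F (quadFormPlus n F) ↔
      ∀ v, quadFormPlus n F ((g : Matrix (Fin n ⊕ Fin n) (Fin n ⊕ Fin n) F) *ᵥ v) = quadFormPlus n F v :=
  ⟨fun h v => h v v, fun h u _ => h u⟩

theorem pol_iso (g : isometryGroup F (quadFormPlus n F)) (u v : Fin n ⊕ Fin n → F) :
    pol ((g.1 : Matrix (Fin n ⊕ Fin n) (Fin n ⊕ Fin n) F) *ᵥ u) ((g.1 : Matrix (Fin n ⊕ Fin n) (Fin n ⊕ Fin n) F) *ᵥ v)
      = pol u v := by
  have h := (mem_iso_iff g.1).1 g.2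
  have h1 := h (u + v)
  rw [mulVec_add, qPlus_add, qPlus_add, h, h] at h1
  exact add_left_cancel h1

/-- An involutive linear map preserving the form, as an element of the isometry group. -/
theorem exists_iso_of_linear (f : (Fin n ⊕ Fin n → F) →ₗ[F] (Fin n ⊕ Fin n → F)) (hf : ∀ v, f (f v) = v)
    (hQ : ∀ v, quadFormPlus n F (f v) = quadFormPlus n F v) :
    ∃ g : isometryGroup F (quadFormPlus n F),
      ∀ v, (g.1 : Matrix (Fin n ⊕ Fin n) (Fin n ⊕ Fin n) F) *ᵥ v = f v := by
  have hM : ∀ v, LinearMap.toMatrix' f *ᵥ v = f v := fun v => LinearMap.toMatrix'_mulVec f v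
  have hsq : LinearMap.toMatrix' f * LinearMap.toMatrix' f = 1 := by
    rw [← LinearMap.toMatrix'_comp, show f.comp f = LinearMap.id from LinearMap.ext hf, LinearMap.toMatrix'_id]
  refine ⟨⟨⟨LinearMap.toMatrix' f, LinearMap.toMatrix' f, hsq, hsq⟩, ?_⟩, hM⟩
  rw [mem_iso_iff]
  exact fun v => by rw [hM, hQ]

/-- A nontrivial isometry fixing the orthogonal complement of a two-dimensional space of vectors. -/
theorem exists_iso_fixing (hz : ∀ z : F, z = 0 ∨ z = 1) (hc : (2 : F) = 0) {t w : Fin n ⊕ Fin n → F}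
    (ht : t ≠ 0) (hw : ∀ c : F, w ≠ c • t) :
    ∃ g : isometryGroup F (quadFormPlus n F), g ≠ 1 ∧
      ∀ v, pol v t = 0 → pol v w = 0 → (g.1 : Matrix (Fin n ⊕ Fin n) (Fin n ⊕ Fin n) F) *ᵥ v = v := by
  have trans : ∀ s, quadFormPlus n F s = 1 → (∀ v, pol v t = 0 → pol v w = 0 → pol v s = 0) →
      ∃ g : isometryGroup F (quadFormPlus n F), g ≠ 1 ∧
        ∀ v, pol v t = 0 → pol v w = 0 → (g.1 : Matrix (Fin n ⊕ Fin n) (Fin n ⊕ Fin n) F) *ᵥ v = v := by
    intro s hs hperp
    let f : (Fin n ⊕ Fin n → F) →ₗ[F] (Fin n ⊕ Fin n → F) :=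
      { toFun := fun v => v + pol v s • s
        map_add' := fun a b => by rw [pol_add_left, add_smul]; abel
        map_smul' := fun c a => by rw [pol_smul_left, RingHom.id_apply, smul_add, mul_smul] }
    obtain ⟨g, hg⟩ := exists_iso_of_linear f
      (fun v => by
        simp only [f, LinearMap.coe_mk, AddHom.coe_mk, pol_add_left, pol_smul_left, pol_self hc, mul_zero, add_zero]
        rw [add_assoc, ← add_smul, show pol v s + pol v s = 0 by linear_combination pol v s * hc, zero_smul, add_zero])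
      (fun v => by
        simp only [f, LinearMap.coe_mk, AddHom.coe_mk, qPlus_add, qPlus_smul, pol_smul_right, hs]
        linear_combination (pol v s) ^ 2 * hc)
    refine ⟨g, fun h1 => ?_, fun v h h' => by rw [hg v]; simp [f, hperp v h h']⟩
    have hs0 : s ≠ 0 := fun h0 => by simp [h0, quadFormPlus] at hs
    obtain ⟨v, hv⟩ := exists_pol_ne_zero hs0
    have := hg v
    rw [h1] at this
    simp [f, hv, hs0] at this
  rcases hz (quadFormPlus n F t) with ht0 | ht1
  swap
  · exact trans t ht1 fun _ h _ => h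
  rcases hz (quadFormPlus n F w) with hw0 | hw1
  swap
  · exact trans w hw1 fun _ _ h => h
  rcases hz (pol t w) with htw | htw
  swap
  · refine trans (t + w) ?_ fun v h h' => by rw [pol_add_right, h, h', add_zero]
    rw [qPlus_add, ht0, hw0, htw, zero_add, zero_add]
  let f : (Fin n ⊕ Fin n → F) →ₗ[F] (Fin n ⊕ Fin n → F) :=
    { toFun := fun v => v + (pol v t • w + pol v w • t)
      map_add' := fun a b => by rw [pol_add_left, pol_add_left, add_smul, add_smul]; abel
      map_smul' := fun c a => by simp only [pol_smul_left, RingHom.id_apply, smul_add, mul_smul] }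
  have hwt : pol w t = 0 := by rw [pol_comm, htw]
  obtain ⟨g, hg⟩ := exists_iso_of_linear f
    (fun v => by
      simp only [f, LinearMap.coe_mk, AddHom.coe_mk, pol_add_left, pol_smul_left, pol_self hc, htw, hwt,
        mul_zero, add_zero]
      ext j
      simp only [Pi.add_apply, Pi.smul_apply, smul_eq_mul]
      linear_combination (pol v t * w j + pol v w * t j) * hc)
    (fun v => by
      simp only [f, LinearMap.coe_mk, AddHom.coe_mk, qPlus_add, qPlus_smul, pol_add_right, pol_smul_left,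
        pol_smul_right, ht0, hw0, hwt]
      linear_combination pol v t * pol v w * hc)
  refine ⟨g, fun h1 => ?_, fun v h h' => by rw [hg v]; simp [f, h, h']⟩
  obtain ⟨v, hv⟩ := exists_pol_ne_zero ht
  have hv1 : pol v t = 1 := (hz _).resolve_left hv
  have := hg v
  rw [h1] at this
  simp only [f, OneMemClass.coe_one, Units.val_one, one_mulVec, LinearMap.coe_mk, AddHom.coe_mk, left_eq_add,
    hv1, one_smul] at this
  exact hw (-pol v w) (by rw [neg_smul]; exact eq_neg_of_add_eq_zero_left this)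

variable {k : ℕ}

/-- The standard singular vectors. -/
def stdVec (i : Fin k) : Fin (k + 1) ⊕ Fin (k + 1) → F := Pi.single (.inl i.castSucc) 1

/-- The pointwise stabiliser of a maximal-but-one totally singular space. -/
def fixStd (F : Type*) [Field F] (k : ℕ) : Subgroup (isometryGroup F (quadFormPlus (k + 1) F)) where
  carrier := {g | ∀ i : Fin k,
    (g.1 : Matrix (Fin (k + 1) ⊕ Fin (k + 1)) (Fin (k + 1) ⊕ Fin (k + 1)) F) *ᵥ stdVec i = stdVec i}
  mul_mem' {a b} ha hb i := by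
    rw [Subgroup.coe_mul, Units.val_mul, ← mulVec_mulVec, hb i, ha i]
  one_mem' i := by simp
  inv_mem' {a} ha i := by
    conv_lhs => rw [← ha i]
    rw [mulVec_mulVec, Subgroup.coe_inv, Units.inv_mul, one_mulVec]

theorem pol_stdVec (v : Fin (k + 1) ⊕ Fin (k + 1) → F) (i : Fin k) : pol v (stdVec i) = v (.inr i.castSucc) := by
  simp [pol, stdVec, Pi.single_apply]

theorem isPGroup_fixStd (hz : ∀ z : F, z = 0 ∨ z = 1) (hc : (2 : F) = 0) : IsPGroup 2 (fixStd F k) := by
  rintro ⟨g, hg⟩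
  refine ⟨3, ?_⟩
  set M := (g.1 : Matrix (Fin (k + 1) ⊕ Fin (k + 1)) (Fin (k + 1) ⊕ Fin (k + 1)) F) with hM
  have hfix : ∀ i : Fin k, M *ᵥ stdVec i = stdVec i := hg
  have hr : ∀ v (i : Fin k), (M *ᵥ v) (.inr i.castSucc) = v (.inr i.castSucc) := fun v i => by
    rw [← pol_stdVec (M *ᵥ v) i, ← pol_stdVec v i]
    conv_lhs => rw [← hfix i]
    exact pol_iso g v (stdVec i)
  have hS : ∀ v, (∀ i : Fin k, v (.inr i.castSucc) = 0) → v (.inl (Fin.last k)) = 0 → v (.inr (Fin.last k)) = 0 →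
      M *ᵥ v = v := by
    intro v h1 h2 h3
    have hv : v = ∑ i : Fin k, v (.inl i.castSucc) • stdVec i := by
      ext j
      rcases j with j | j <;> induction j using Fin.lastCases <;>
        simp [stdVec, Pi.single_apply, h1, h2, h3, Fin.castSucc_ne_last, (Fin.castSucc_ne_last _).symm]
    rw [hv]
    simp [mulVec_sum, mulVec_smul, hfix]
  have hinj : Function.Injective (fun v => M *ᵥ v) := mulVec_injective_of_isUnit (g.1.isUnit)
  let eL : Fin (k + 1) ⊕ Fin (k + 1) → F := Pi.single (.inl (Fin.last k)) 1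
  let fL : Fin (k + 1) ⊕ Fin (k + 1) → F := Pi.single (.inr (Fin.last k)) 1
  have hQ := (mem_iso_iff g.1).1 g.2
  have himg : ∀ u, (∀ i : Fin k, u (.inr i.castSucc) = 0) → quadFormPlus (k + 1) F u = 0 →
      ¬ (u (.inl (Fin.last k)) = 0 ∧ u (.inr (Fin.last k)) = 0) →
      ((M *ᵥ u) (.inl (Fin.last k)) = 1 ∧ (M *ᵥ u) (.inr (Fin.last k)) = 0) ∨
        ((M *ᵥ u) (.inl (Fin.last k)) = 0 ∧ (M *ᵥ u) (.inr (Fin.last k)) = 1) := by
    intro u h1 h2 h3
    have e : (M *ᵥ u) (.inl (Fin.last k)) * (M *ᵥ u) (.inr (Fin.last k)) = 0 := by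
      have := hQ u
      rw [h2, quadFormPlus, Fin.sum_univ_castSucc] at this
      simpa [← hM, hr, h1] using this
    have hne : ¬ ((M *ᵥ u) (.inl (Fin.last k)) = 0 ∧ (M *ᵥ u) (.inr (Fin.last k)) = 0) := fun ⟨a, b⟩ => by
      have := hinj (hS (M *ᵥ u) (fun i => by rw [hr, h1]) a b)
      exact h3 ⟨this ▸ a, this ▸ b⟩
    rcases hz ((M *ᵥ u) (.inl (Fin.last k))) with a | a
    · exact Or.inr ⟨a, (hz _).resolve_left fun b => hne ⟨a, b⟩⟩
    · exact Or.inl ⟨a, by simpa [a] using e⟩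
  have he := himg eL (fun i => by simp [eL]) (by simp [eL, quadFormPlus]) (by simp [eL])
  have hf := himg fL (fun i => by simp [fL, Pi.single_apply, Fin.castSucc_ne_last]) (by simp [fL, quadFormPlus]) (by simp [fL])
  have hef : (M *ᵥ eL) (.inl (Fin.last k)) * (M *ᵥ fL) (.inr (Fin.last k))
      + (M *ᵥ eL) (.inr (Fin.last k)) * (M *ᵥ fL) (.inl (Fin.last k)) = 1 := by
    have := pol_iso g eL fL
    rw [← hM, pol, Fin.sum_univ_castSucc, pol] at this
    simpa [hr, eL, fL, Pi.single_apply, Fin.castSucc_ne_last] using this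
  have hP : ∀ v, (∀ i : Fin k, v (.inr i.castSucc) = 0) →
      (M *ᵥ (M *ᵥ v)) (.inl (Fin.last k)) = v (.inl (Fin.last k)) ∧
        (M *ᵥ (M *ᵥ v)) (.inr (Fin.last k)) = v (.inr (Fin.last k)) := by
    have lin : ∀ v, (∀ i : Fin k, v (.inr i.castSucc) = 0) → ∀ j, (j = .inl (Fin.last k) ∨ j = .inr (Fin.last k)) →
        (M *ᵥ v) j = v (.inl (Fin.last k)) * (M *ᵥ eL) j + v (.inr (Fin.last k)) * (M *ᵥ fL) j := by
      intro v h1 j hj
      have := congrFun (hS (v - v (.inl (Fin.last k)) • eL - v (.inr (Fin.last k)) • fL)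
        (fun i => by simp [eL, fL, h1, Pi.single_apply, Fin.castSucc_ne_last])
        (by simp [eL, fL]) (by simp [eL, fL])) j
      simp only [mulVec_sub, mulVec_smul, Pi.sub_apply, Pi.smul_apply, smul_eq_mul] at this
      have el : eL (.inl (Fin.last k)) = 1 ∧ eL (.inr (Fin.last k)) = 0 := by simp [eL]
      have fl : fL (.inl (Fin.last k)) = 0 ∧ fL (.inr (Fin.last k)) = 1 := by simp [fL]
      rcases hj with rfl | rfl <;> rw [el.1, el.2, fl.1, fl.2] at * <;> linear_combination this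
    intro v h1
    have h1' : ∀ i : Fin k, (M *ᵥ v) (.inr i.castSucc) = 0 := fun i => by rw [hr, h1]
    simp only [lin _ h1' _ (Or.inl rfl), lin _ h1' _ (Or.inr rfl), lin _ h1 _ (Or.inl rfl), lin _ h1 _ (Or.inr rfl)]
    rcases he with ⟨a, b⟩ | ⟨a, b⟩ <;> rcases hf with ⟨c, d⟩ | ⟨c, d⟩ <;> simp [a, b, c, d] at hef ⊢
  set N := M * M - 1 with hN
  have hN3 : N * N * N = 0 := by
    refine Matrix.ext_of_mulVec_single fun j => ?_
    rw [← mulVec_mulVec, ← mulVec_mulVec, zero_mulVec]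
    set v := N *ᵥ Pi.single j 1 with hv
    have hNv : ∀ u, N *ᵥ u = M *ᵥ (M *ᵥ u) - u := fun u => by rw [hN, sub_mulVec, one_mulVec, mulVec_mulVec]
    have h1 : ∀ i : Fin k, v (.inr i.castSucc) = 0 := fun i => by rw [hv, hNv, Pi.sub_apply, hr, hr, sub_self]
    have h2 : ∀ i : Fin k, (N *ᵥ v) (.inr i.castSucc) = 0 := fun i => by rw [hNv, Pi.sub_apply, hr, hr, sub_self]
    have h3 := hP v h1
    have := hS (N *ᵥ v) h2 (by rw [hNv, Pi.sub_apply, h3.1, sub_self]) (by rw [hNv, Pi.sub_apply, h3.2, sub_self])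
    rw [hNv (N *ᵥ v), this, this, sub_self]
  refine Subtype.ext (Subtype.ext (Units.ext ?_))
  rw [SubgroupClass.coe_pow, SubgroupClass.coe_pow, Units.val_pow_eq_pow_val]
  change M ^ 8 = 1
  have hMM : M * M = 1 + N := by rw [hN]; abel
  have h2N : ∀ A : Matrix (Fin (k + 1) ⊕ Fin (k + 1)) (Fin (k + 1) ⊕ Fin (k + 1)) F, A + A = 0 := fun A => by
    ext i j
    rw [Matrix.add_apply, Matrix.zero_apply]
    linear_combination A i j * hc
  have hsq : ∀ A : Matrix (Fin (k + 1) ⊕ Fin (k + 1)) (Fin (k + 1) ⊕ Fin (k + 1)) F, (1 + A) * (1 + A) = 1 + A * A := fun A => by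
    rw [show (1 + A) * (1 + A) = 1 + A * A + (A + A) by noncomm_ring, h2N, add_zero]
  calc M ^ 8 = ((M * M) * (M * M)) * ((M * M) * (M * M)) := by simp only [pow_succ, pow_zero, one_mul, mul_assoc]
    _ = 1 + (N * N * N) * N := by rw [hMM, hsq, hsq]; noncomm_ring
    _ = 1 := by rw [hN3, zero_mul, add_zero]

set_option synthInstance.maxHeartbeats 200000 in
set_option maxHeartbeats 1000000 in
theorem sylow_meet [Fintype F] (hF : Fintype.card F = 2) (H : Sylow 2 (isometryGroup F (quadFormPlus (k + 1) F)))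
    (x : isometryGroup F (quadFormPlus (k + 1) F)) :
    (H : Subgroup (isometryGroup F (quadFormPlus (k + 1) F))) ⊓ MulAut.conj x • (H : Subgroup _) ≠ ⊥ := by
  classical
  have hz : ∀ z : F, z = 0 ∨ z = 1 := fun z => by
    by_contra h
    push Not at h
    have : ({0, 1, z} : Finset F).card = 3 := by simp [h.1.symm, h.2.symm]
    have := Finset.card_le_univ ({0, 1, z} : Finset F)
    omega
  have hc : (2 : F) = 0 := by
    have h := FiniteField.cast_card_eq_zero F
    rw [hF] at h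
    exact_mod_cast h
  haveI : Fact (Nat.Prime 2) := ⟨Nat.prime_two⟩
  obtain ⟨P, hP⟩ := (isPGroup_fixStd (k := k) hz hc).exists_le_sylow
  obtain ⟨y, hy⟩ := MulAction.exists_smul_eq (isometryGroup F (quadFormPlus (k + 1) F)) P H
  let L : (Fin (k + 1) ⊕ Fin (k + 1) → F) →ₗ[F] (Fin k ⊕ Fin k → F) :=
    { toFun := fun v => Sum.elim
        (fun i => pol v ((y.1 : Matrix (Fin (k + 1) ⊕ Fin (k + 1)) (Fin (k + 1) ⊕ Fin (k + 1)) F) *ᵥ stdVec i))
        (fun i => pol v (((x * y).1 : Matrix (Fin (k + 1) ⊕ Fin (k + 1)) (Fin (k + 1) ⊕ Fin (k + 1)) F) *ᵥ stdVec i))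
      map_add' := fun a b => by funext j; rcases j with j | j <;> simp [pol_add_left]
      map_smul' := fun c a => by funext j; rcases j with j | j <;> simp [pol_smul_left] }
  have hdim : 2 ≤ Module.finrank F (LinearMap.ker L) := by
    have h1 := L.finrank_range_add_finrank_ker
    have h2 := (LinearMap.range L).finrank_le
    simp only [Module.finrank_pi, Fintype.card_sum, Fintype.card_fin] at h1 h2
    omega
  obtain ⟨t, ht⟩ : ∃ t : LinearMap.ker L, t ≠ 0 := Module.finrank_pos_iff_exists_ne_zero.1 (lt_of_lt_of_le Nat.two_pos hdim)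
  obtain ⟨w, hw⟩ : ∃ w : LinearMap.ker L, ∀ c : F, w ≠ c • t := by
    by_contra! h
    have : Module.finrank F (LinearMap.ker L) ≤ 1 :=
      finrank_le_one t fun w => (h w).imp fun c hc => hc.symm
    exact absurd (hdim.trans this) (by norm_num)
  obtain ⟨g, hg1, hg⟩ := exists_iso_fixing hz hc (t := (t : Fin (k + 1) ⊕ Fin (k + 1) → F))
    (w := (w : Fin (k + 1) ⊕ Fin (k + 1) → F)) (fun h => ht (Subtype.ext h))
    (fun c h => hw c (Subtype.ext h))
  have hmem : ∀ z : isometryGroup F (quadFormPlus (k + 1) F),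
      (∀ i : Fin k, (g.1 : Matrix (Fin (k + 1) ⊕ Fin (k + 1)) (Fin (k + 1) ⊕ Fin (k + 1)) F) *ᵥ
        ((z.1 : Matrix (Fin (k + 1) ⊕ Fin (k + 1)) (Fin (k + 1) ⊕ Fin (k + 1)) F) *ᵥ stdVec i) =
        ((z.1 : Matrix (Fin (k + 1) ⊕ Fin (k + 1)) (Fin (k + 1) ⊕ Fin (k + 1)) F) *ᵥ stdVec i)) →
      z⁻¹ * g * z ∈ fixStd F k := by
    intro z hz' i
    rw [Subgroup.coe_mul, Subgroup.coe_mul, Units.val_mul, Units.val_mul, ← mulVec_mulVec, ← mulVec_mulVec,
      hz' i, mulVec_mulVec, Subgroup.coe_inv, Units.inv_mul, one_mulVec]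
  have hk : ∀ (v : LinearMap.ker L) j, L v.1 j = 0 := fun v j => congrFun (LinearMap.mem_ker.1 v.2) j
  have h1 := hmem y fun i => hg _ (by rw [pol_comm]; exact hk t (.inl i)) (by rw [pol_comm]; exact hk w (.inl i))
  have h2 := hmem (x * y) fun i => hg _ (by rw [pol_comm]; exact hk t (.inr i)) (by rw [pol_comm]; exact hk w (.inr i))
  have hH : ∀ z, z ∈ fixStd F k → y * z * y⁻¹ ∈ (H : Subgroup (isometryGroup F (quadFormPlus (k + 1) F))) := by
    intro z hzm
    rw [← hy]
    exact Subgroup.smul_mem_pointwise_smul z (MulAut.conj y) _ (hP hzm)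
  intro hbot
  apply hg1
  rw [← Subgroup.mem_bot, ← hbot]
  refine Subgroup.mem_inf.2 ⟨?_, ?_⟩
  · have := hH _ h1
    simpa [mul_assoc] using this
  · rw [Subgroup.mem_pointwise_smul_iff_inv_smul_mem]
    have := hH _ h2
    simpa [mul_assoc, MulAut.smul_def] using this

end CfsgLib.SylowMeet
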